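import Groth.Prelude.Def_ClSub2
import Groth.Prelude.Def_FlatMod2
import Groth.Agent.Lib.OX.ProjClosed
import Groth.Agent.Lib.OX.PullbackTensor
import Groth.Agent.Lib.OX.LocFreeTensor
import Groth.Agent.Lib.ClosedHom20.Basic
import Groth.Agent.Lib.ChangeRings20.Basic
import Groth.Agent.Lib.OmegaAff.Basic
import Groth.Agent.Lib.IdealModSec.Basic
import Groth.Agent.Lib.Euler.Divisor
import Groth.Agent.Lib.K0Sub.Pullback

/-!
# The sequence `0 → i_*(i^*I ⊗ i^*F) → F → i_* i^* F → 0` of a square-zero ideal `I`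
-/

set_option autoImplicit false
set_option maxHeartbeats 400000
set_option linter.style.haveILetI false
set_option backward.isDefEq.respectTransparency false

universe u

open CategoryTheory CategoryTheory.Limits AlgebraicGeometry Opposite

namespace GrothLib.SqZeroHom26

variable {X : Scheme.{u}} (I : X.IdealSheafData)

local notation "Pl" => Scheme.Modules.pullback (Scheme.IdealSheafData.subschemeι I)
local notation "Ps" => Scheme.Modules.pushforward (Scheme.IdealSheafData.subschemeι I)
local notation "adj" => Scheme.Modules.pullbackPushforwardAdjunction (Scheme.IdealSheafData.subschemeι I)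

/-- An ideal of square zero kills its module. -/
theorem killed_idealMod (hI : I ^ 2 = ⊥) :
    ClSub.KilledByIdeal I.subschemeι.ker (ClSub.idealMod I) := by
  intro U a ha m
  rw [Scheme.IdealSheafData.ker_subschemeι] at ha
  apply IdealModSec.val_injective I U.1
  rw [IdealModSec.val_smul, IdealModSec.val_zero]
  have h1 := Ideal.mul_mem_mul ha (IdealModSec.val_mem I U m)
  have h2 : I.ideal U * I.ideal U = ⊥ := by
    have := congrArg (fun J : X.IdealSheafData => J.ideal U) hI
    simpa [pow_two] using this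
  rw [h2] at h1
  exact h1

theorem isIso_unit_idealMod (hI : I ^ 2 = ⊥) : IsIso ((adj).unit.app (ClSub.idealMod I)) :=
  haveI := OmegaAff.isQuasicoherent_idealMod I
  QCoh.isIso_unit_of_killed I.subschemeι _ (killed_idealMod I hI)

theorem pullback_map_idealModι : (Pl).map (ClSub.idealModι I) = 0 := by
  rw [← cancel_mono (OX.pullUnitIso I.subschemeι).hom, zero_comp]
  apply ((adj).homEquiv _ _).injective
  rw [Adjunction.homEquiv_naturality_left]
  have h : (adj).homEquiv _ _ (OX.pullUnitIso I.subschemeι).hom = ClSub.toSubscheme I := by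
    refine (Equiv.apply_symm_apply _ (SheafOfModules.unitToPushforwardObjUnit _)).trans ?_
    rfl
  haveI : (Ps).Additive := (adj).right_adjoint_additive
  rw [h, Adjunction.homEquiv_unit, (Ps).map_zero, comp_zero]
  exact kernel.condition _

variable (F : X.Modules)

/-- `i_* O_Z ⊗ F ≅ i_* i^* F`. -/
noncomputable def quotTensorIso :
    ((DCoh.tensorBi (X := X)).flip.obj F).obj (ClSub.quotMod I) ≅ (Ps).obj ((Pl).obj F) :=
  ((OX.tensorBraiding (X := X)).app F).app (ClSub.quotMod I) ≪≫
    (@asIso _ _ _ _ _ (OX.isIso_projHom_closed I.subschemeι F (Coh.structureModule I.subscheme))) ≪≫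
    (Ps).mapIso (((OX.tensorBraiding (X := I.subscheme)).app (Coh.structureModule I.subscheme)).app ((Pl).obj F) ≪≫
      OX.tensorUnitLeftIso _)

/-- `I ⊗ F ⟶ F`. -/
noncomputable def mulHom : ((DCoh.tensorBi (X := X)).flip.obj F).obj (ClSub.idealMod I) ⟶ F :=
  ((DCoh.tensorBi (X := X)).flip.obj F).map (ClSub.idealModι I) ≫ (OX.tensorUnitLeftIso F).hom

theorem pullback_map_mulHom : (Pl).map (mulHom I F) = 0 := by
  rw [mulHom, Functor.map_comp]
  have h := OX.pullTensorIso_natural₁ I.subschemeι (ClSub.idealModι I) F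
  rw [pullback_map_idealModι] at h
  have h0 : (Pl).map (((DCoh.tensorBi (X := X)).map (ClSub.idealModι I)).app F) = 0 := by
    rw [← cancel_mono (OX.pullTensorIso I.subschemeι (Coh.structureModule X) F).hom, zero_comp]
    refine h.trans ?_
    have : (((DCoh.tensorBi (X := I.subscheme)).flip.obj ((Pl).obj F)).map
        (0 : (Pl).obj (ClSub.idealMod I) ⟶ (Pl).obj (Coh.structureModule X))) = 0 := Functor.map_zero _ _ _
    exact (congrArg (_ ≫ ·) this).trans comp_zero
  exact (congrArg (· ≫ _) h0).trans zero_comp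

theorem mulHom_unit : mulHom I F ≫ (adj).unit.app F = 0 := by
  haveI : (Ps).Additive := (adj).right_adjoint_additive
  refine ((adj).unit.naturality (mulHom I F)).trans ?_
  show _ ≫ (Ps).map ((Pl).map (mulHom I F)) = 0
  rw [pullback_map_mulHom, Functor.map_zero, comp_zero]

theorem shortExact_mulHom (hF : FlatMod.IsFlat F) :
    (ShortComplex.mk (mulHom I F) ((adj).unit.app F) (mulHom_unit I F)).ShortExact := by
  let T := (DCoh.tensorBi (X := X)).flip.obj F
  haveI : Epi (ClSub.toSubscheme I) := Euler.epi_toSubscheme I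
  have hS : (ShortComplex.mk (ClSub.idealModι I) (ClSub.toSubscheme I) (kernel.condition _)).ShortExact :=
    { exact := ShortComplex.exact_of_f_is_kernel _ (kernelIsKernel (ClSub.toSubscheme I))
      mono_f := inferInstanceAs (Mono (kernel.ι (ClSub.toSubscheme I)))
      epi_g := inferInstanceAs (Epi (ClSub.toSubscheme I)) }
  have hT := OX.tensor_map_shortExact hF hS
  haveI : Epi (T.map (ClSub.toSubscheme I)) := hT.epi_g
  let u := OX.tensorUnitLeftIso F
  let g : F ⟶ (Ps).obj ((Pl).obj F) := u.inv ≫ T.map (ClSub.toSubscheme I) ≫ (quotTensorIso I F).hom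
  haveI : Epi g := inferInstanceAs (Epi (u.inv ≫ T.map (ClSub.toSubscheme I) ≫ (quotTensorIso I F).hom))
  have w : mulHom I F ≫ g = 0 := by
    have hw : T.map (ClSub.idealModι I) ≫ T.map (ClSub.toSubscheme I) = 0 := by
      exact (T.map_comp _ _).symm.trans ((congrArg T.map (kernel.condition _)).trans (T.map_zero _ _))
    calc mulHom I F ≫ g = (T.map (ClSub.idealModι I) ≫ T.map (ClSub.toSubscheme I)) ≫ (quotTensorIso I F).hom := by
          simp [mulHom, g, u, T]
      _ = 0 := by rw [hw, zero_comp]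
  have hS' : (ShortComplex.mk (mulHom I F) g w).ShortExact := by
    refine ShortComplex.shortExact_of_iso ?_ hT
    refine ShortComplex.isoMk (Iso.refl _) u (quotTensorIso I F) ?_ ?_
    · exact Category.id_comp _
    · exact Iso.hom_inv_id_assoc u (T.map (ClSub.toSubscheme I) ≫ (quotTensorIso I F).hom)
  obtain ⟨φ, hφ⟩ : ∃ φ, g ≫ φ = (adj).unit.app F :=
    haveI : Epi (ShortComplex.mk (mulHom I F) g w).g := hS'.epi_g
    ⟨hS'.exact.desc _ (mulHom_unit I F), hS'.exact.g_desc _ _⟩
  obtain ⟨θ, hθ⟩ : ∃ θ : (Pl).obj F ⟶ (Pl).obj F, (adj).unit.app F ≫ (Ps).map θ = g :=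
    ⟨((adj).homEquiv _ _).symm g, ((adj).homEquiv_unit _ _ _).symm.trans (Equiv.apply_symm_apply _ g)⟩
  have h1 : φ ≫ (Ps).map θ = 𝟙 _ := by
    rw [← cancel_epi g, ← Category.assoc, hφ, hθ, Category.comp_id]
  have h2 : (Ps).map θ ≫ φ = 𝟙 _ := by
    haveI := (ClosedHom20.full_faithful_pushforward I.subschemeι).1
    obtain ⟨ψ, hψ⟩ := (Ps).map_surjective ((Ps).map θ ≫ φ)
    have hψ1 : ψ = 𝟙 _ := by
      apply ((adj).homEquiv _ _).injective
      rw [Adjunction.homEquiv_unit, Adjunction.homEquiv_unit, CategoryTheory.Functor.map_id, hψ,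
        ← Category.assoc, hθ, hφ]
      exact (Category.comp_id _).symm
    rw [← hψ, hψ1, CategoryTheory.Functor.map_id]
  refine ShortComplex.shortExact_of_iso ?_ hS'
  refine ShortComplex.isoMk (Iso.refl _) (Iso.refl _) ⟨φ, (Ps).map θ, h1, h2⟩ ?_ ?_
  · simp
  · exact (Category.id_comp _).trans hφ.symm

/-- `I ⊗ F ≅ i_*(i^* I ⊗ i^* F)`. -/
noncomputable def idealTensorIso (hI : I ^ 2 = ⊥) :
    ((DCoh.tensorBi (X := X)).flip.obj F).obj (ClSub.idealMod I) ≅
      (Ps).obj (CohB1.tensorMod ((Pl).obj (ClSub.idealMod I)) ((Pl).obj F)) :=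
  haveI := isIso_unit_idealMod I hI
  ((DCoh.tensorBi (X := X)).flip.obj F).mapIso (asIso ((adj).unit.app (ClSub.idealMod I))) ≪≫
    ((OX.tensorBraiding (X := X)).app F).app _ ≪≫
    (@asIso _ _ _ _ _ (OX.isIso_projHom_closed I.subschemeι F ((Pl).obj (ClSub.idealMod I)))) ≪≫
    (Ps).mapIso (((OX.tensorBraiding (X := I.subscheme)).app ((Pl).obj (ClSub.idealMod I))).app ((Pl).obj F))

/-- The restriction sequence of a flat module along a square-zero thickening. -/
theorem exists_shortExact (hI : I ^ 2 = ⊥) (hF : FlatMod.IsFlat F) :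
    ∃ (j : (Ps).obj (CohB1.tensorMod ((Pl).obj (ClSub.idealMod I)) ((Pl).obj F)) ⟶ F)
      (w : j ≫ (adj).unit.app F = 0), (ShortComplex.mk j ((adj).unit.app F) w).ShortExact := by
  refine ⟨(idealTensorIso I F hI).inv ≫ mulHom I F, by rw [Category.assoc, mulHom_unit, comp_zero], ?_⟩
  refine ShortComplex.shortExact_of_iso ?_ (shortExact_mulHom I F hF)
  refine ShortComplex.isoMk (idealTensorIso I F hI) (Iso.refl _) (Iso.refl _) ?_ ?_
  · exact ((Iso.hom_inv_id_assoc (idealTensorIso I F hI) (mulHom I F)).trans (Category.comp_id _).symm)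
  · exact (Category.id_comp _).trans (Category.comp_id _).symm

end GrothLib.SqZeroHom26
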